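import Groth.Agent.MultTori.K409.Coord
import Groth.Agent.MultTori.K441.Defs
import Groth.Agent.Grpsch.MulFin
import Groth.Agent.Sga7.H270.FinPts

/-!
# Projective coordinates on an abelian variety (node RQ-B of S18688)
-/

set_option autoImplicit false
universe u

open CategoryTheory CategoryTheory.Limits AlgebraicGeometry Opposite TopologicalSpace MonoidalCategory
  CartesianMonoidalCategory

namespace K409.AbCoord

open scoped MonObj
open Groth.Agent Groth.Agent.Fdesc.LocGen K409.Frame K409.Forms K409.Coord K931.MulSurj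
open Groth.Agent.Ega2 Groth.Agent.Ega2.TensGen Groth.Agent.Ega2.TensPow
open Groth.Agent.Grpsch.PicGrp Groth.Agent.Grpsch.Cube
open Groth.Agent.MultTori.K441 (ProjCoord)

variable {K : Type u} [Field K] {X : Scheme.{u}}

theorem exists_const_of_eq {x x' : Spec (CommRingCat.of K) ⟶ X} (h : x = x') {M : X.Modules} (F : Fr x M)
    (G : Fr x' M) : ∃ c : K, c ≠ 0 ∧ ∀ s, F.val s = c * G.val s := by
  subst h
  exact F.exists_const G

/-- Values of the sections at the points. -/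
theorem eval_smul_form {n : ℕ} {F : MvPolynomial (Fin n) K} {t : ℕ} (hF : F.IsHomogeneous t) (k : K)
    (v : Fin n → K) : MvPolynomial.eval (k • v) F = k ^ t * MvPolynomial.eval v F := by
  rw [MvPolynomial.eval_eq, MvPolynomial.eval_eq, Finset.mul_sum]
  refine Finset.sum_congr rfl fun d hd => ?_
  have h1 : ∑ i ∈ d.support, d i = t := by
    have := hF (MvPolynomial.mem_support_iff.1 hd)
    rw [← this, Finsupp.weight_apply, Finsupp.sum]
    simp
  rw [← h1]
  simp only [Pi.smul_apply, smul_eq_mul, mul_pow, Finset.prod_mul_distrib, Finset.prod_pow_eq_pow_sum]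
  ring

/-- Rational points are separated by the coordinates. -/
theorem eq_of_smul (q : X ⟶ Spec (CommRingCat.of K)) [IsProper q] {L : X.Modules} (hL : CohB1.IsAmple L) {n : ℕ}
    {c : Fin n → Γ(L, ⊤)} (hs : Span q c) (hg : ∀ t, 1 ≤ t → Gen c (CohB1.tensorPow L t))
    {x y : Spec (CommRingCat.of K) ⟶ X} (hx : x ≫ q = 𝟙 _) (hy : y ≫ q = 𝟙 _) (F : Fr x L) (G : Fr y L)
    (k : K) (hk : k ≠ 0) (h : ∀ i, G.val (c i) = k * F.val (c i)) : x = y := by
  by_contra hne
  have hpt : x (pt K) ≠ y (pt K) := fun h' => hne (Sga7.H270.FinPts.section_ext q x y hx hy h')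
  have hci : IsClosedImmersion y := by
    have : IsClosedImmersion (y ≫ q) := by rw [hy]; infer_instance
    exact IsClosedImmersion.of_comp y q
  have hcl : IsClosed ({y (pt K)} : Set X) := by
    have h2 := y.isClosedEmbedding.isClosedMap _ isClosed_univ
    have h3 : y '' Set.univ = {y (pt K)} := by
      ext z
      constructor
      · rintro ⟨w, -, rfl⟩
        have hw : w = pt K := Subsingleton.elim (α := PrimeSpectrum K) _ _
        rw [hw]
        rfl
      · rintro rfl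
        exact ⟨pt K, trivial, rfl⟩
    rwa [h3] at h2
  obtain ⟨m, t, hxt, htW, -⟩ := Fdesc.LocGen.IsAmple.exists_genLocus_le hL (x := x (pt K))
    (W := ⟨{y (pt K)}ᶜ, hcl.isOpen_compl⟩) hpt
  have hyt : y (pt K) ∉ CohB1.genLocus _ t := fun h' => htW h' rfl
  have ht : t = homOf (sec t ⊤) := by
    apply hom_ext_sec
    rw [sec_homOf, res_refl]
  obtain ⟨P, hP, hP'⟩ := exists_rep hs hg (m + 1) (Nat.le_add_left 1 m) (sec t ⊤)
  have h1 : MvPolynomial.eval (fun i => F.val (c i)) P ≠ 0 := by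
    rw [← hP' x hx F, Fr.val_ne_zero_iff, ← ht]
    exact hxt
  have h2 : MvPolynomial.eval (fun i => G.val (c i)) P = 0 := by
    rw [← hP' y hy G]
    by_contra h3
    rw [← ne_eq, Fr.val_ne_zero_iff, ← ht] at h3
    exact hyt h3
  have h3 : (fun i => G.val (c i)) = k • (fun i => F.val (c i)) := funext h
  rw [h3, eval_smul_form hP] at h2
  exact h1 ((mul_eq_zero.1 h2).resolve_left (pow_ne_zero _ hk))

variable (A : Over (Spec (CommRingCat.of K))) [GrpObj A] [IsProper A.hom] [GeometricallyIntegral A.hom]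

/-- The theorem of the square. -/
theorem square (L : Pic A.left) (y : 𝟙_ (Over (Spec (CommRingCat.of K))) ⟶ A) :
    pl (𝟙 A * (toUnit A ≫ y)) L * pl (𝟙 A * (toUnit A ≫ y)⁻¹) L = L ^ 2 := by
  have h := cube L (𝟙 A) (toUnit A ≫ y) (toUnit A ≫ y)⁻¹
  have h1 : ∀ z : 𝟙_ (Over (Spec (CommRingCat.of K))) ⟶ A, pl (toUnit A ≫ z) L = 1 := by
    intro z
    rw [pl_comp]
    have h2 : pl z L = 1 := pic_spec_local K (pl z L)
    rw [h2, map_one]
  have h2 : (toUnit A ≫ y)⁻¹ = toUnit A ≫ y⁻¹ := by rw [GrpObj.comp_inv]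
  have h3 : pl (𝟙 A) L = L := pull_id L
  rw [mul_assoc (𝟙 A), mul_inv_cancel, mul_one, h3, h1, h2, h1, mul_one, mul_one, ← h2, pl_one, mul_one] at h
  rw [pow_two]
  exact h.symm

/-- Forms for a tuple of sections, with their values. -/
theorem exists_forms {q : X ⟶ Spec (CommRingCat.of K)} {L : X.Modules} {n : ℕ}
    {c : Fin n → Γ(L, ⊤)} (hs : Span q c) (hg : ∀ t, 1 ≤ t → Gen c (CohB1.tensorPow L t)) {t : ℕ} (ht : 1 ≤ t)
    {J : Type} (σ : J → Γ(CohB1.tensorPow L t, ⊤)) :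
    ∃ F : J → MvPolynomial (Fin n) K, (∀ i, (F i).IsHomogeneous t) ∧
      ∀ (x : Spec (CommRingCat.of K) ⟶ X), x ≫ q = 𝟙 _ → ∀ Φ : Fr x L, ∀ i,
        MvPolynomial.eval (fun j => Φ.val (c j)) (F i) = (Φ.pow t).val (σ i) := by
  choose F hF using fun i => exists_rep hs hg t ht (σ i)
  exact ⟨F, fun i => (hF i).1, fun x hx Φ i => ((hF i).2 x hx Φ).symm⟩

omit [GrpObj A] [IsProper A.hom] [GeometricallyIntegral A.hom] in
theorem pt_hom (x : 𝟙_ (Over (Spec (CommRingCat.of K))) ⟶ A) :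
    (x.left : Spec (CommRingCat.of K) ⟶ A.left) ≫ A.hom = 𝟙 _ := Over.w x

/-- **Projective coordinates on an abelian variety.** -/
theorem projCoord_abelian [IsCommMonObj A] : Nonempty (ProjCoord K (𝟙_ (Over (Spec (CommRingCat.of K))) ⟶ A)) := by
  classical
  obtain ⟨L₀, hL₀, hsym₀⟩ := Grpsch.MulFin.exists_symm_ample A
  obtain ⟨d, hd, L, hL, ⟨e₀⟩, n, c, hs, hcov, hg⟩ := exists_coord A.hom hL₀
  have hsym : pl (𝟙 A)⁻¹ (mk L hL.1) = mk L hL.1 := by
    have h1 : mk L hL.1 = mk L₀ hL₀.1 ^ d := by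
      rw [← mk_tensorPow hL₀.1]
      exact (mk_eq_iff _ _).2 ⟨e₀⟩
    rw [h1, map_pow, hsym₀]
  -- frames
  let fr : ∀ x : 𝟙_ (Over (Spec (CommRingCat.of K))) ⟶ A, Fr (x.left : Spec (CommRingCat.of K) ⟶ A.left) L :=
    fun x => (nonempty_fr _ hL.1).some
  let P : (𝟙_ (Over (Spec (CommRingCat.of K))) ⟶ A) → Fin n → K := fun x i => (fr x).val (c i)
  have hne : ∀ x, ∃ i, P x i ≠ 0 := by
    intro x
    obtain ⟨V, i, hp, hV⟩ := hcov ((x.left : Spec (CommRingCat.of K) ⟶ A.left) (pt K))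
    refine ⟨i, ?_⟩
    change (fr x).val (c i) ≠ 0
    rw [Fr.val_ne_zero_iff, mem_genLocus_iff]
    exact ⟨V, hp, by rw [sec_homOf]; exact hV⟩
  refine ⟨{
    I := Fin n
    P := P
    ne := fun x h => ?_
    inj := fun x y k h => ?_
    a := 2
    add := fun y => ?_
    m0 := 1
    mul := fun m hm => ?_ }⟩
  · obtain ⟨i, hi⟩ := hne x
    exact hi (congrFun h i)
  · have hk : k ≠ 0 := by
      rintro rfl
      obtain ⟨i, hi⟩ := hne y
      apply hi
      rw [h, zero_smul]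
      rfl
    apply Over.OverMorphism.ext
    exact eq_of_smul A.hom hL hs hg (pt_hom A x) (pt_hom A y) (fr x) (fr y) k hk (fun i => congrFun h i)
  · -- translations
    let τ : A ⟶ A := 𝟙 A * (toUnit A ≫ y)
    let τ' : A ⟶ A := 𝟙 A * (toUnit A ≫ y)⁻¹
    have hsq := square A (mk L hL.1) y
    have hφ : Nonempty (CohB1.tensorMod ((Scheme.Modules.pullback τ.left).obj L)
        ((Scheme.Modules.pullback τ'.left).obj L) ≅ CohB1.tensorPow L 2) := by
      rw [← mk_eq_iff (isInvertible_tensorMod (isInvertible_pullback _ hL.1) (isInvertible_pullback _ hL.1))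
        (isInvertible_tensorPow hL.1 2), ← mk_mul_mk, mk_tensorPow hL.1]
      exact hsq
    obtain ⟨φ⟩ := hφ
    obtain ⟨F, hF, hF'⟩ := exists_forms hs hg (le_refl _ |>.trans one_le_two)
      (fun ki : Fin n × Fin n => (φ.hom.app ⊤ (tmul (pullTop τ.left (c ki.2)) (pullTop τ'.left (c ki.1))) :
        Γ(CohB1.tensorPow L 2, ⊤)))
    refine ⟨Fin n, inferInstance, fun k i => F (k, i), fun k i => hF (k, i), fun x => ?_⟩
    obtain ⟨k, hk⟩ := hne (x * y⁻¹)
    have hx1 : (x.left : Spec (CommRingCat.of K) ⟶ A.left) ≫ τ.left = (x * y).left := by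
      rw [← Over.comp_left]
      congr 1
      change x ≫ (𝟙 A * (toUnit A ≫ y)) = _
      rw [MonObj.comp_mul, Category.comp_id, ← Category.assoc]
      congr 1
      rw [show x ≫ toUnit A = 𝟙 _ from toUnit_unique _ _, Category.id_comp]
    have hx2 : (x.left : Spec (CommRingCat.of K) ⟶ A.left) ≫ τ'.left = (x * y⁻¹).left := by
      rw [← Over.comp_left]
      congr 1
      change x ≫ (𝟙 A * (toUnit A ≫ y)⁻¹) = _
      rw [MonObj.comp_mul, Category.comp_id, GrpObj.comp_inv, ← Category.assoc]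
      congr 2
      rw [show x ≫ toUnit A = 𝟙 _ from toUnit_unique _ _, Category.id_comp]
    let Φ₁ : Fr ((x.left : Spec (CommRingCat.of K) ⟶ A.left) ≫ τ.left) L := (nonempty_fr _ hL.1).some
    let Φ₂ : Fr ((x.left : Spec (CommRingCat.of K) ⟶ A.left) ≫ τ'.left) L := (nonempty_fr _ hL.1).some
    obtain ⟨c₁, hc₁, h₁⟩ := exists_const_of_eq hx1 Φ₁ (fr (x * y))
    obtain ⟨c₂, hc₂, h₂⟩ := exists_const_of_eq hx2 Φ₂ (fr (x * y⁻¹))
    obtain ⟨c₃, hc₃, h₃⟩ := ((fr x).pow 2).exists_const (((Φ₁.pull τ.left).tmul (Φ₂.pull τ'.left)).map φ)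
    refine ⟨k, c₃ * c₁ * (c₂ * P (x * y⁻¹) k), ?_, ?_⟩
    · exact mul_ne_zero (mul_ne_zero hc₃ hc₁) (mul_ne_zero hc₂ hk)
    · funext i
      change MvPolynomial.eval (P x) (F (k, i)) = _
      refine (hF' _ (pt_hom A x) (fr x) (k, i)).trans ?_
      rw [h₃, Fr.val_map, Fr.val_tmul, Fr.val_pull, Fr.val_pull, h₁, h₂]
      simp only [Pi.smul_apply, smul_eq_mul]
      change c₃ * (c₁ * P (x * y) i * (c₂ * P (x * y⁻¹) k)) = _
      ring
  · -- multiplication by `m`
    let μm : A ⟶ A := 𝟙 A ^ m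
    obtain ⟨ψ⟩ := Grpsch.MulFin.nonempty_iso_of_symm A L hL.1 hsym m
    let y : Fin n → Γ(CohB1.tensorPow L (m ^ 2), ⊤) := fun j => ψ.hom.app ⊤ (pullTop μm.left (c j))
    have hy : Cov y := by
      intro p
      obtain ⟨V, i, hp, hV⟩ := hcov (μm.left p)
      refine ⟨μm.left ⁻¹ᵁ V, i, hp, ?_⟩
      change IsGen (res _ _ (ψ.hom.app ⊤ (pullTop μm.left (c i))))
      rw [← app_res]
      have h1 : res ((Scheme.Modules.pullback μm.left).obj L) (le_top : μm.left ⁻¹ᵁ V ≤ ⊤)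
          (pullTop μm.left (c i)) = pullSec μm.left (res L (le_top : V ≤ ⊤) (c i)) :=
        res_pullSec μm.left (le_top : V ≤ ⊤) (c i)
      refine IsGen.app ψ.hom ?_
      rw [h1]
      exact hV.pullSec _
    have hm2 : 1 ≤ m ^ 2 := Nat.one_le_pow _ _ (by omega)
    obtain ⟨a₀, ha₀⟩ := exists_gen_twist A.hom hL (isInvertible_tensorPow hL.1 (m ^ 2)) y hy
    obtain ⟨F, hF, hF'⟩ := exists_forms hs hg hm2 y
    choose u hu using fun i => ha₀ (a₀ + 1) (Nat.le_succ _)
      (tmul (pow (c i) (a₀ + 1)) (pow (c i) (m ^ 2)))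
    obtain ⟨b, hb, hb'⟩ := exists_forms hs hg (Nat.le_add_left 1 a₀) (fun ij : Fin n × Fin n => u ij.1 ij.2)
    refine ⟨(a₀ + 1) + m ^ 2, F, fun i j => b (i, j), Nat.le_add_left _ _, hF, fun i j => ?_, fun x i => ?_,
      fun x => ?_⟩
    · rw [Nat.add_sub_cancel]
      exact hb (i, j)
    · have h1 : (((fr x).pow (a₀ + 1)).tmul ((fr x).pow (m ^ 2))).val
          (tmul (pow (c i) (a₀ + 1)) (pow (c i) (m ^ 2))) = P x i ^ ((a₀ + 1) + m ^ 2) := by
        rw [Fr.val_tmul, Fr.val_pow, Fr.val_pow, ← pow_add]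
      rw [← h1, hu i, Fr.val_sum]
      refine Finset.sum_congr rfl fun j _ => ?_
      rw [Fr.val_tmul]
      congr 1
      · exact (hb' _ (pt_hom A x) (fr x) (i, j)).symm
      · exact (hF' _ (pt_hom A x) (fr x) j).symm
    · have hx1 : (x.left : Spec (CommRingCat.of K) ⟶ A.left) ≫ μm.left = (x ^ m).left := by
        rw [← Over.comp_left]
        congr 1
        change x ≫ (𝟙 A ^ m) = _
        rw [MonObj.comp_pow, Category.comp_id]
      let Φ₁ : Fr ((x.left : Spec (CommRingCat.of K) ⟶ A.left) ≫ μm.left) L := (nonempty_fr _ hL.1).some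
      obtain ⟨c₁, hc₁, h₁⟩ := exists_const_of_eq hx1 Φ₁ (fr (x ^ m))
      obtain ⟨c₃, hc₃, h₃⟩ := ((fr x).pow (m ^ 2)).exists_const ((Φ₁.pull μm.left).map ψ)
      refine ⟨c₃ * c₁, mul_ne_zero hc₃ hc₁, ?_⟩
      funext i
      change MvPolynomial.eval (P x) (F i) = _
      refine (hF' _ (pt_hom A x) (fr x) i).trans ?_
      rw [h₃, Fr.val_map, Fr.val_pull, h₁]
      simp only [Pi.smul_apply, smul_eq_mul]
      change c₃ * (c₁ * P (x ^ m) i) = _
      ring

end K409.AbCoord
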