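import Groth.Agent.MultTori.K409.Forms
import Groth.Agent.CohqB.ProjEmb
import Groth.Agent.VarietyA.CurveFin
import Groth.Agent.CurvesB.HZero
import Groth.Agent.CurvesC.GenPt
import Groth.Agent.Divis.NormAmple
import Groth.Agent.Fga.PicMon

/-!
# Systems of sections of a power of an ample module whose products span all sections of its powers
-/

set_option autoImplicit false
universe u

open CategoryTheory CategoryTheory.Limits AlgebraicGeometry Opposite TopologicalSpace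

namespace K409.Coord

open Groth.Agent Groth.Agent.Fdesc.LocGen K409.Frame K409.Forms K931.MulSurj
open Groth.Agent.Ega2 Groth.Agent.Ega2.TensGen Groth.Agent.Ega2.TensPow

variable {K : Type u} [Field K] {X : Scheme.{u}}

/-- The sections generate at every point. -/
def Cov {L : X.Modules} {n : ℕ} (c : Fin n → Γ(L, ⊤)) : Prop :=
  ∀ p : X, ∃ (V : X.Opens) (i : Fin n), p ∈ V ∧ IsGen (res L (le_top : V ≤ ⊤) (c i))

theorem exists_span (q : X ⟶ Spec (CommRingCat.of K)) [IsProper q] {L : X.Modules} (hL : PicF.IsInvertible L) :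
    ∃ (n : ℕ) (c : Fin n → Γ(L, ⊤)), Span q c := by
  let _ : X.Over (Spec (CommRingCat.of K)) := ⟨q⟩
  have : IsProper (X ↘ Spec (CommRingCat.of K)) := inferInstanceAs (IsProper q)
  have hfin : Module.Finite K (Coh.HH X L 0) := VarietyA.CurveFin.finite_HH K X hL 0
  let b := Module.finBasis K (Coh.HH X L 0)
  refine ⟨_, fun i => CurvesB.HZero.equivAdd L (b i), fun l =>
    ⟨fun i => b.repr ((CurvesB.HZero.equivAdd L).symm l) i, ?_⟩⟩
  have h := congrArg (CurvesB.HZero.equivAdd L) (b.sum_repr ((CurvesB.HZero.equivAdd L).symm l))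
  rw [AddEquiv.apply_symm_apply, map_sum] at h
  refine h.symm.trans ?_
  apply Finset.sum_congr rfl
  intro j _
  exact CurvesB.HZero.equivAdd_smul_over (A := K) L _ _

/-- Multiplication by generating sections is surjective after a large twist. -/
theorem exists_gen_twist (q : X ⟶ Spec (CommRingCat.of K)) [IsProper q] {A : X.Modules} (hA : CohB1.IsAmple A)
    {M : X.Modules} (hM : PicF.IsInvertible M) {n : ℕ} (s : Fin n → Γ(M, ⊤)) (hs : Cov s) :
    ∃ a₀ : ℕ, ∀ a, a₀ ≤ a → Gen s (CohB1.tensorPow A a) := by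
  have : IsLocallyNoetherian X := LocallyOfFiniteType.isLocallyNoetherian q
  have hcoh := isCoh_mu_kernel hM s (CurvesC.UnitCoh.isCoh_unit X)
  obtain ⟨a₀, ha₀⟩ := (S0051.result K X q A hA.1).mp hA _ hcoh
  refine ⟨a₀, fun a ha => ?_⟩
  have h1 : Gen s (CohB1.tensorMod (Coh.structureModule X) (CohB1.tensorPow A a)) := by
    refine gen_of_subsingleton s (𝟙 X) (fun p => ?_) _ (isInvertible_tensorPow hA.1 a) ?_
    · obtain ⟨V, i, hp, hg⟩ := hs p
      exact ⟨V, i, hp, hg⟩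
    · exact Fga.HShift.subsingleton_of_iso ((Scheme.Modules.pushforwardId X).app _).symm 1 (ha₀ a ha 1 one_pos)
  exact h1.of_iso _ (Tens.lunit _)

/-- If a combination generates at a point then one of the terms does. -/
theorem exists_of_sum {L : X.Modules} (hL : PicF.IsInvertible L) {n : ℕ} (c : Fin n → Γ(L, ⊤))
    (a : Fin n → Γ(X, ⊤)) (p : X) (h : p ∈ CohB1.genLocus L (homOf (∑ i, a i • c i))) :
    ∃ i, p ∈ CohB1.genLocus L (homOf (c i)) := by
  have key : ∀ t : Γ(L, ⊤), (homOf t : Coh.structureModule X ⟶ L) = CurvesC.Gen.ofSec t := by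
    intro t
    apply hom_ext_sec
    rw [sec_homOf, res_refl]
    refine Eq.trans ?_ (CurvesC.Gen.sec_ofSec t ⊤).symm
    exact (res_refl L t).symm
  by_contra hc
  push Not at hc
  rw [key] at h
  have h1 : ∑ i, a i • c i ∈ CurvesC.GenPt.nonGen hL p := by
    refine Submodule.sum_mem _ fun i _ => Submodule.smul_mem _ _ ?_
    change p ∉ CohB1.genLocus L (CurvesC.Gen.ofSec (c i))
    rw [← key]
    exact hc i
  exact h1 h

theorem Span.cov {q : X ⟶ Spec (CommRingCat.of K)} {L : X.Modules} (hL : PicF.IsInvertible L) {n : ℕ}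
    {c : Fin n → Γ(L, ⊤)} (hs : Span q c) {m : ℕ} {s : Fin m → Γ(L, ⊤)} (hc : Cov s) : Cov c := by
  intro p
  obtain ⟨V, i, hp, hg⟩ := hc p
  obtain ⟨a, ha⟩ := hs (s i)
  obtain ⟨j, hj⟩ := exists_of_sum hL c (fun i => sc q (a i)) p (by
    rw [mem_genLocus_iff]
    refine ⟨V, hp, ?_⟩
    rw [sec_homOf, ← ha]
    exact hg)
  rw [mem_genLocus_iff] at hj
  obtain ⟨W, hW, hg'⟩ := hj
  rw [sec_homOf] at hg'
  exact ⟨W, j, hW, hg'⟩

/-- Sections of `G ⊗ M^e` in terms of a spanning tuple of `M^e`. -/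
theorem gen_of_range {q : X ⟶ Spec (CommRingCat.of K)} {G N : X.Modules} {n : ℕ} {c : Fin n → Γ(N, ⊤)}
    (hs : Span q c) (h : ∀ t : Γ(CohB1.tensorMod G N, ⊤), ∃ z, tmulLin G N ⊤ z = t) : Gen c G := by
  intro t
  obtain ⟨z, rfl⟩ := h t
  induction z using TensorProduct.induction_on with
  | zero =>
    refine ⟨fun _ => 0, ?_⟩
    rw [map_zero, Finset.sum_eq_zero fun i _ => zero_tmul (c i)]
  | tmul g l =>
    obtain ⟨a, rfl⟩ := hs l
    refine ⟨fun i => sc q (a i) • g, ?_⟩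
    rw [TensorProduct.tmul_sum, map_sum]
    refine Finset.sum_congr rfl fun i _ => ?_
    change tmul g (sc q (a i) • c i) = _
    rw [tmul_smul, smul_tmul]
  | add x y hx hy =>
    obtain ⟨u, hu⟩ := hx
    obtain ⟨v, hv⟩ := hy
    refine ⟨fun i => u i + v i, ?_⟩
    rw [map_add, hu, hv, ← Finset.sum_add_distrib]
    exact Finset.sum_congr rfl fun i _ => (add_tmul _ _ _).symm

/-- The coordinates. -/
theorem exists_coord (q : X ⟶ Spec (CommRingCat.of K)) [IsProper q] {L₀ : X.Modules} (hL₀ : CohB1.IsAmple L₀) :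
    ∃ (d : ℕ) (_ : 0 < d) (L : X.Modules) (_ : CohB1.IsAmple L) (_ : Nonempty (L ≅ CohB1.tensorPow L₀ d))
      (n : ℕ) (c : Fin n → Γ(L, ⊤)), Span q c ∧ Cov c ∧ ∀ t, 1 ≤ t → Gen c (CohB1.tensorPow L t) := by
  obtain ⟨n₀, hn₀⟩ := CohqB.ProjLift.exists_embedding_sections q hL₀
  obtain ⟨m, s, I, hI, -, -⟩ := hn₀ (n₀ + 1) (Nat.le_succ _)
  let M := CohB1.tensorPow L₀ (n₀ + 1)
  have hM : CohB1.IsAmple M := Divis.NormAmple.isAmple_tensorPow hL₀ n₀.succ_pos
  let s' : Fin (m + 1) → Γ(M, ⊤) := fun i => sec (s i) ⊤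
  have hcov : Cov s' := by
    intro p
    have hp : p ∈ ⨆ i : I, CohB1.genLocus _ (s i) := hI ▸ trivial
    obtain ⟨i, hi⟩ := Opens.mem_iSup.1 hp
    refine ⟨CohB1.genLocus _ (s i), i.1, hi, ?_⟩
    rw [res_sec]
    exact isGen_sec_genLocus (s i)
  obtain ⟨a₀, ha₀⟩ := exists_gen_twist q hM hM.1 s' hcov
  let L := CohB1.tensorPow M (a₀ + 1)
  have hL : CohB1.IsAmple L := Divis.NormAmple.isAmple_tensorPow hM a₀.succ_pos
  obtain ⟨n, c, hc⟩ := exists_span q hL.1
  have hcov' : Cov (fun i => pow (s' i) (a₀ + 1)) := by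
    intro p
    obtain ⟨V, i, hp, hg⟩ := hcov p
    refine ⟨V, i, hp, ?_⟩
    change IsGen (res (CohB1.tensorPow M (a₀ + 1)) _ (pow (s' i) (a₀ + 1)))
    rw [res_pow]
    exact hg.pow _
  refine ⟨(n₀ + 1) * (a₀ + 1), by positivity, L, hL, ?_, n, c, hc, Span.cov hL.1 hc hcov', fun t ht => ?_⟩
  · rw [← Fga.PicMon.mc_eq_iff, Fga.PicMon.mc_tensorPow, Fga.PicMon.mc_tensorPow, Fga.PicMon.mc_tensorPow, pow_mul]
  · refine gen_of_range hc ?_
    refine range_of_gen (s := s') (fun b => ?_) (a₀ + 1)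
    have h1 : Nonempty (CohB1.tensorPow M ((a₀ + 1) * t + b) ≅
        CohB1.tensorMod (CohB1.tensorPow L t) (CohB1.tensorPow M b)) := by
      have h2 : Fga.PicMon.mc L = Fga.PicMon.mc M ^ (a₀ + 1) := Fga.PicMon.mc_tensorPow M (a₀ + 1)
      rw [← Fga.PicMon.mc_eq_iff, Fga.PicMon.mc_tensor, Fga.PicMon.mc_tensorPow M, Fga.PicMon.mc_tensorPow L,
        Fga.PicMon.mc_tensorPow M b, h2, ← pow_mul, ← pow_add]
    obtain ⟨e⟩ := h1
    exact (ha₀ _ (by nlinarith)).of_iso _ e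

end K409.Coord
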