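import Groth.Agent.MultTori.K409.Frame
import Groth.Agent.PosLin.K931.MulMain
import Mathlib.RingTheory.MvPolynomial.Homogeneous

/-!
# Sections of powers as forms
-/

set_option autoImplicit false
universe u

open CategoryTheory CategoryTheory.Limits AlgebraicGeometry Opposite TopologicalSpace

namespace K409.Forms

open Groth.Agent.Fdesc.LocGen K409.Frame K931.MulSurj
open Groth.Agent.Ega2 Groth.Agent.Ega2.TensGen Groth.Agent.Ega2.TensPow

variable {K : Type u} [Field K] {X : Scheme.{u}} (q : X ⟶ Spec (CommRingCat.of K)) {L : X.Modules} {n : ℕ}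
  (c : Fin n → Γ(L, ⊤))

/-- The tuple spans the global sections. -/
def Span : Prop := ∀ l : Γ(L, ⊤), ∃ a : Fin n → K, l = ∑ i, sc q (a i) • c i

/-- The section `σ` of `L^t` is represented by the form `F` of degree `t`, at all rational points. -/
def Rep (t : ℕ) (σ : Γ(CohB1.tensorPow L t, ⊤)) (F : MvPolynomial (Fin n) K) : Prop :=
  F.IsHomogeneous t ∧ ∀ (x : Spec (CommRingCat.of K) ⟶ X), x ≫ q = 𝟙 _ → ∀ Φ : Fr x L,
    (Φ.pow t).val σ = MvPolynomial.eval (fun i => Φ.val (c i)) F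

variable {q c}

theorem Span.rep_one (hs : Span q c) (σ : Γ(CohB1.tensorPow L 1, ⊤)) : ∃ F, Rep q c 1 σ F := by
  obtain ⟨l, hl⟩ := (tmul_left_bijective L (isGen_one (⊤ : X.Opens)) le_rfl).2 σ
  obtain ⟨a, rfl⟩ := hs l
  refine ⟨∑ i, MvPolynomial.C (a i) * MvPolynomial.X i, ?_, fun x hx Φ => ?_⟩
  · refine MvPolynomial.IsHomogeneous.sum _ _ 1 fun i _ => ?_
    have h := (MvPolynomial.isHomogeneous_C (Fin n) (a i)).mul (MvPolynomial.isHomogeneous_X K i)
    rwa [zero_add] at h
  · have h1 : σ = tmul (one ⊤) (∑ i, sc q (a i) • c i) := by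
      rw [← hl]
      change tmul (res _ le_rfl (one ⊤)) _ = _
      rw [res_one]
    rw [h1]
    refine ((Fr.one x).val_tmul Φ (one ⊤) _).trans ?_
    rw [Fr.val_one, one_mul, Fr.val_sum, map_sum]
    refine Finset.sum_congr rfl fun i _ => ?_
    rw [Φ.val_sc_smul q hx, map_mul, MvPolynomial.eval_C, MvPolynomial.eval_X]

/-- Sections of `L^t` are forms of degree `t` in the `c i`. -/
theorem exists_rep (hs : Span q c) (hg : ∀ t, 1 ≤ t → Gen c (CohB1.tensorPow L t)) (t : ℕ) (ht : 1 ≤ t) :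
    ∀ σ : Γ(CohB1.tensorPow L t, ⊤), ∃ F, Rep q c t σ F := by
  induction t, ht using Nat.le_induction with
  | base => exact hs.rep_one
  | succ t ht ih =>
    intro σ
    obtain ⟨w, hw⟩ := hg t ht σ
    choose F hF using fun i => ih (w i)
    refine ⟨∑ i, F i * MvPolynomial.X i, ?_, fun x hx Φ => ?_⟩
    · exact MvPolynomial.IsHomogeneous.sum _ _ _ fun i _ => (hF i).1.mul (MvPolynomial.isHomogeneous_X K i)
    · rw [hw, map_sum]
      refine (((Φ.pow t).tmul Φ).val_sum Finset.univ fun i => tmul (w i) (c i)).trans ?_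
      refine Finset.sum_congr rfl fun i _ => ?_
      refine ((Φ.pow t).val_tmul Φ (w i) (c i)).trans ?_
      rw [(hF i).2 x hx Φ, map_mul, MvPolynomial.eval_X]

end K409.Forms
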