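import Groth.Agent.Fdesc.LocGenGlue

/-!
# Values of sections of invertible modules at rational points

A frame `F : Fr x M` of `M` at a `K`-point `x` is a local generator of `M` near `x`; `F.val s : K` is the value of the
global section `s` at `x` in this frame.  Frames can be multiplied, pulled back and transported.
-/

set_option autoImplicit false
universe u

open CategoryTheory CategoryTheory.Limits AlgebraicGeometry Opposite TopologicalSpace

namespace K409.Frame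

open Groth.Agent.Fdesc.LocGen

variable {K : Type u} [Field K] {X Y : Scheme.{u}}

/-- The closed point. -/
noncomputable abbrev pt (K : Type u) [Field K] : (Spec (CommRingCat.of K) : Scheme.{u}) :=
  (IsLocalRing.closedPoint K : PrimeSpectrum K)

theorem le_preimage_iff (x : Spec (CommRingCat.of K) ⟶ X) (W : X.Opens) :
    (⊤ : (Spec (CommRingCat.of K)).Opens) ≤ x ⁻¹ᵁ W ↔ x (pt K) ∈ W := by
  constructor
  · intro h
    exact h (trivial : pt K ∈ (⊤ : (Spec (CommRingCat.of K)).Opens))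
  · intro h y _
    have hy : y = pt K := Subsingleton.elim (α := PrimeSpectrum K) _ _
    rw [hy]
    exact h

/-- Evaluation of functions near a `K`-point. -/
noncomputable def ev (x : Spec (CommRingCat.of K) ⟶ X) (U : X.Opens)
    (h : (⊤ : (Spec (CommRingCat.of K)).Opens) ≤ x ⁻¹ᵁ U) : Γ(X, U) →+* K :=
  (Scheme.ΓSpecIso (CommRingCat.of K)).hom.hom.comp (x.appLE U ⊤ h).hom

theorem ev_ores (x : Spec (CommRingCat.of K) ⟶ X) {U V : X.Opens} (hVU : V ≤ U)
    (h : (⊤ : (Spec (CommRingCat.of K)).Opens) ≤ x ⁻¹ᵁ V) (h' : (⊤ : (Spec (CommRingCat.of K)).Opens) ≤ x ⁻¹ᵁ U)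
    (a : Γ(X, U)) : ev x V h (ores hVU a) = ev x U h' a := by
  have h1 := congr(($(Scheme.Hom.map_appLE x h (homOfLE hVU).op)) a)
  exact congrArg (Scheme.ΓSpecIso (CommRingCat.of K)).hom h1

theorem ev_comp (x : Spec (CommRingCat.of K) ⟶ X) (f : X ⟶ Y) {U : Y.Opens}
    (h : (⊤ : (Spec (CommRingCat.of K)).Opens) ≤ x ⁻¹ᵁ (f ⁻¹ᵁ U))
    (h' : (⊤ : (Spec (CommRingCat.of K)).Opens) ≤ (x ≫ f) ⁻¹ᵁ U) (a : Γ(Y, U)) :
    ev x (f ⁻¹ᵁ U) h (f.app U a) = ev (x ≫ f) U h' a := by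
  have h1 := congr(($(Scheme.Hom.comp_appLE x f U ⊤ h')) a)
  exact congrArg (Scheme.ΓSpecIso (CommRingCat.of K)).hom h1.symm

/-- A frame of `M` at `x`. -/
structure Fr (x : Spec (CommRingCat.of K) ⟶ X) (M : X.Modules) where
  U : X.Opens
  h : (⊤ : (Spec (CommRingCat.of K)).Opens) ≤ x ⁻¹ᵁ U
  e : Γ(M, U)
  gen : IsGen e

variable {x : Spec (CommRingCat.of K) ⟶ X} {M N : X.Modules}

theorem nonempty_fr (x : Spec (CommRingCat.of K) ⟶ X) {M : X.Modules} (hM : PicF.IsInvertible M) :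
    Nonempty (Fr x M) := by
  obtain ⟨U, e, hx, he⟩ := (isInvertible_iff M).mp hM (x (pt K))
  exact ⟨⟨U, (le_preimage_iff x U).2 hx, e, he⟩⟩

/-- The coefficient of a section. -/
noncomputable def Fr.coef (F : Fr x M) (s : Γ(M, ⊤)) : Γ(X, F.U) :=
  (F.gen.exists_eq (res M le_top s)).choose

theorem Fr.coef_spec (F : Fr x M) (s : Γ(M, ⊤)) : res M le_top s = F.coef s • F.e :=
  (F.gen.exists_eq (res M le_top s)).choose_spec

/-- The value of a section in a frame. -/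
noncomputable def Fr.val (F : Fr x M) (s : Γ(M, ⊤)) : K := ev x F.U F.h (F.coef s)

theorem Fr.val_eq (F : Fr x M) (s : Γ(M, ⊤)) {V : X.Opens} (hV : V ≤ F.U)
    (h : (⊤ : (Spec (CommRingCat.of K)).Opens) ≤ x ⁻¹ᵁ V) (a : Γ(X, V))
    (ha : res M le_top s = a • res M hV F.e) : F.val s = ev x V h a := by
  have h1 : ores hV (F.coef s) = a := by
    apply (F.gen.res hV).ext
    rw [← ha, ← res_smul, ← F.coef_spec, res_res]
  rw [← h1, ev_ores x hV h F.h]
  rfl

theorem Fr.val_add (F : Fr x M) (s t : Γ(M, ⊤)) : F.val (s + t) = F.val s + F.val t := by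
  rw [F.val_eq (s + t) le_rfl F.h (F.coef s + F.coef t) (by
    rw [map_add, add_smul, res_refl, F.coef_spec, F.coef_spec]), map_add]
  rfl

theorem Fr.val_smul (F : Fr x M) (c : Γ(X, ⊤)) (s : Γ(M, ⊤)) : F.val (c • s) = ev x ⊤ le_top c * F.val s := by
  rw [F.val_eq (c • s) le_rfl F.h (ores le_top c * F.coef s) (by
    rw [res_smul, F.coef_spec, res_refl, smul_smul]), map_mul, ev_ores x le_top F.h le_top]
  rfl

/-- The value as an additive map. -/
noncomputable def Fr.valHom (F : Fr x M) : Γ(M, ⊤) →+ K where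
  toFun := F.val
  map_zero' := by
    have h := F.val_add 0 0
    rw [add_zero] at h
    exact left_eq_add.mp h
  map_add' := F.val_add

@[simp] theorem Fr.val_zero (F : Fr x M) : F.val 0 = 0 := F.valHom.map_zero

theorem Fr.val_sum (F : Fr x M) {ι : Type*} (S : Finset ι) (s : ι → Γ(M, ⊤)) :
    F.val (∑ i ∈ S, s i) = ∑ i ∈ S, F.val (s i) := map_sum F.valHom s S

/-- Two frames differ by a nonzero constant. -/
theorem Fr.exists_const (F G : Fr x M) : ∃ c : K, c ≠ 0 ∧ ∀ s, F.val s = c * G.val s := by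
  obtain ⟨u, hu, hue⟩ := (F.gen.res (inf_le_left : F.U ⊓ G.U ≤ F.U)).exists_unit
    (G.gen.res (inf_le_right : F.U ⊓ G.U ≤ G.U))
  have hV : (⊤ : (Spec (CommRingCat.of K)).Opens) ≤ x ⁻¹ᵁ (F.U ⊓ G.U) := le_inf F.h G.h
  refine ⟨ev x _ hV u, (hu.map (ev x _ hV)).ne_zero, fun s => ?_⟩
  rw [F.val_eq s (inf_le_left : F.U ⊓ G.U ≤ F.U) hV (ores inf_le_right (G.coef s) * u) ?_, map_mul,
    ev_ores x inf_le_right hV G.h, mul_comm]
  · rfl
  · rw [mul_smul, ← hue, ← res_smul, ← G.coef_spec, res_res]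

/-- The frame `1` of the structure module. -/
noncomputable def Fr.one (x : Spec (CommRingCat.of K) ⟶ X) : Fr x (Coh.structureModule X) :=
  ⟨⊤, le_top, Groth.Agent.Fdesc.LocGen.one ⊤, isGen_one ⊤⟩

@[simp] theorem Fr.val_one (x : Spec (CommRingCat.of K) ⟶ X) : (Fr.one x).val (Groth.Agent.Fdesc.LocGen.one ⊤) = 1 := by
  rw [(Fr.one x).val_eq (Groth.Agent.Fdesc.LocGen.one ⊤) le_rfl le_top 1 (by
    rw [one_smul]; rfl), map_one]

/-- Tensor products of frames. -/
noncomputable def Fr.tmul (F : Fr x M) (G : Fr x N) : Fr x (CohB1.tensorMod M N) :=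
  ⟨F.U ⊓ G.U, le_inf F.h G.h, Groth.Agent.Fdesc.LocGen.tmul (res M inf_le_left F.e) (res N inf_le_right G.e),
    (F.gen.res _).tmul (G.gen.res _)⟩

theorem Fr.val_tmul (F : Fr x M) (G : Fr x N) (s : Γ(M, ⊤)) (t : Γ(N, ⊤)) :
    (F.tmul G).val (Groth.Agent.Fdesc.LocGen.tmul s t) = F.val s * G.val t := by
  have hV : (⊤ : (Spec (CommRingCat.of K)).Opens) ≤ x ⁻¹ᵁ (F.U ⊓ G.U) := le_inf F.h G.h
  refine ((F.tmul G).val_eq (Groth.Agent.Fdesc.LocGen.tmul s t) (V := F.U ⊓ G.U) le_rfl hV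
    (ores inf_le_left (F.coef s) * ores inf_le_right (G.coef t)) ?_).trans ?_
  swap
  · rw [map_mul, ev_ores x inf_le_left _ F.h, ev_ores x inf_le_right _ G.h]
    rfl
  · rw [res_tmul]
    refine Eq.trans ?_ (congrArg _ (res_refl _ _)).symm
    change _ = _ • Groth.Agent.Fdesc.LocGen.tmul (res M inf_le_left F.e) (res N inf_le_right G.e)
    have h1 : res M (le_top : F.U ⊓ G.U ≤ ⊤) s = ores (inf_le_left : F.U ⊓ G.U ≤ F.U) (F.coef s) •
        res M (inf_le_left : F.U ⊓ G.U ≤ F.U) F.e := by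
      rw [← res_smul, ← F.coef_spec, res_res]
    have h2 : res N (le_top : F.U ⊓ G.U ≤ ⊤) t = ores (inf_le_right : F.U ⊓ G.U ≤ G.U) (G.coef t) •
        res N (inf_le_right : F.U ⊓ G.U ≤ G.U) G.e := by
      rw [← res_smul, ← G.coef_spec, res_res]
    have h5 : Groth.Agent.Fdesc.LocGen.tmul (res M (le_top : F.U ⊓ G.U ≤ ⊤) s) (res N (le_top : F.U ⊓ G.U ≤ ⊤) t) =
        (ores (inf_le_left : F.U ⊓ G.U ≤ F.U) (F.coef s) * ores (inf_le_right : F.U ⊓ G.U ≤ G.U) (G.coef t)) •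
          Groth.Agent.Fdesc.LocGen.tmul (res M (inf_le_left : F.U ⊓ G.U ≤ F.U) F.e)
            (res N (inf_le_right : F.U ⊓ G.U ≤ G.U) G.e) := by
      rw [h1, h2, smul_tmul, tmul_smul, smul_smul]
    exact h5

/-- Powers of frames. -/
noncomputable def Fr.pow (F : Fr x M) : (n : ℕ) → Fr x (CohB1.tensorPow M n)
  | 0 => Fr.one x
  | n + 1 => (Fr.pow F n).tmul F

theorem Fr.val_pow (F : Fr x M) (s : Γ(M, ⊤)) (n : ℕ) : (F.pow n).val (Groth.Agent.Fdesc.LocGen.pow s n) = F.val s ^ n := by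
  induction n with
  | zero => rw [_root_.pow_zero]; exact Fr.val_one x
  | succ n ih =>
    rw [_root_.pow_succ, ← ih]
    exact (F.pow n).val_tmul F (Groth.Agent.Fdesc.LocGen.pow s n) s

/-- Transport of frames. -/
noncomputable def Fr.map (F : Fr x M) (φ : M ≅ N) : Fr x N :=
  ⟨F.U, F.h, φ.hom.app F.U F.e, F.gen.app φ.hom⟩

theorem Fr.val_map (F : Fr x M) (φ : M ≅ N) (s : Γ(M, ⊤)) : (F.map φ).val (φ.hom.app ⊤ s) = F.val s := by
  rw [(F.map φ).val_eq (φ.hom.app ⊤ s) le_rfl F.h (F.coef s) ?_]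
  · rfl
  · rw [res_refl, ← app_res]
    change φ.hom.app F.U (res M le_top s) = F.coef s • φ.hom.app F.U F.e
    rw [F.coef_spec, Scheme.Modules.Hom.app_smul]

/-- Pullback of frames. -/
noncomputable def Fr.pull {x : Spec (CommRingCat.of K) ⟶ X} (f : X ⟶ Y) {M : Y.Modules} (F : Fr (x ≫ f) M) :
    Fr x ((Scheme.Modules.pullback f).obj M) :=
  ⟨f ⁻¹ᵁ F.U, F.h, pullSec f F.e, F.gen.pullSec f⟩

theorem Fr.val_pull {x : Spec (CommRingCat.of K) ⟶ X} (f : X ⟶ Y) {M : Y.Modules} (F : Fr (x ≫ f) M)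
    (s : Γ(M, ⊤)) : (F.pull f).val (pullTop f s) = F.val s := by
  rw [(F.pull f).val_eq (pullTop f s) le_rfl F.h (f.app F.U (F.coef s)) ?_]
  · exact ev_comp x f F.h F.h (F.coef s)
  · rw [res_refl]
    have h1 : res ((Scheme.Modules.pullback f).obj M) (le_top : f ⁻¹ᵁ F.U ≤ ⊤) (pullTop f s) =
        pullSec f (res M (le_top : F.U ≤ ⊤) s) := res_pullSec f (le_top : F.U ≤ ⊤) s
    refine h1.trans ?_
    rw [F.coef_spec, pullSec_smul]
    rfl

/-- The value is nonzero iff the section generates at the point. -/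
theorem Fr.val_ne_zero_iff (F : Fr x M) (s : Γ(M, ⊤)) :
    F.val s ≠ 0 ↔ x (pt K) ∈ CohB1.genLocus M (homOf s) := by
  rw [mem_genLocus_iff]
  constructor
  · intro h
    -- near `x` the coefficient is invertible
    refine ⟨X.basicOpen (F.coef s), ?_, ?_⟩
    · rw [← le_preimage_iff]
      have h1 : IsUnit (F.val s) := isUnit_iff_ne_zero.2 h
      have h2 : IsUnit (x.appLE F.U ⊤ F.h (F.coef s)) := by
        have h3 := h1.map (Scheme.ΓSpecIso (CommRingCat.of K)).inv.hom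
        change IsUnit ((Scheme.ΓSpecIso (CommRingCat.of K)).inv
          ((Scheme.ΓSpecIso (CommRingCat.of K)).hom (x.appLE F.U ⊤ F.h (F.coef s)))) at h3
        rwa [← ConcreteCategory.comp_apply, Iso.hom_inv_id] at h3
      have h4 := Scheme.basicOpen_of_isUnit _ h2
      rw [Scheme.basicOpen_appLE, top_inf_eq] at h4
      rw [h4]
    · rw [sec_homOf]
      have h1 : res M (le_top : X.basicOpen (F.coef s) ≤ ⊤) s =
          ores (X.basicOpen_le (F.coef s)) (F.coef s) • res M (X.basicOpen_le (F.coef s)) F.e := by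
        rw [← res_smul, ← F.coef_spec, res_res]
      rw [h1]
      exact (F.gen.res _).unit_smul (RingedSpace.isUnit_res_basicOpen X.toRingedSpace (F.coef s))
  · rintro ⟨V, hV, hg⟩
    rw [sec_homOf] at hg
    have hVV : (⊤ : (Spec (CommRingCat.of K)).Opens) ≤ x ⁻¹ᵁ (F.U ⊓ V) := le_inf F.h ((le_preimage_iff x V).2 hV)
    have h1 : res M (le_top : F.U ⊓ V ≤ ⊤) s = ores (inf_le_left : F.U ⊓ V ≤ F.U) (F.coef s) •
        res M (inf_le_left : F.U ⊓ V ≤ F.U) F.e := by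
      rw [← res_smul, ← F.coef_spec, res_res]
    have h2 : IsGen (res M (le_top : F.U ⊓ V ≤ ⊤) s) := by
      have := hg.res (inf_le_right : F.U ⊓ V ≤ V)
      rwa [res_res] at this
    rw [h1] at h2
    have h3 := (F.gen.res (inf_le_left : F.U ⊓ V ≤ F.U)).isUnit_of_smul h2
    rw [F.val_eq s inf_le_left hVV _ h1]
    exact (h3.map (ev x _ hVV)).ne_zero

/-! ### The `K`-structure -/

/-- Scalars as functions. -/
noncomputable def sc (q : X ⟶ Spec (CommRingCat.of K)) : K →+* Γ(X, ⊤) :=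
  q.appTop.hom.comp (Scheme.ΓSpecIso (CommRingCat.of K)).inv.hom

theorem ev_sc (q : X ⟶ Spec (CommRingCat.of K)) (hx : x ≫ q = 𝟙 _) (c : K) : ev x ⊤ le_top (sc q c) = c := by
  change (Scheme.ΓSpecIso (CommRingCat.of K)).hom (x.appLE ⊤ ⊤ le_top
    (q.appTop ((Scheme.ΓSpecIso (CommRingCat.of K)).inv c))) = c
  have h1 : x.appLE ⊤ ⊤ le_top (q.appTop ((Scheme.ΓSpecIso (CommRingCat.of K)).inv c)) =
      (x ≫ q).appTop ((Scheme.ΓSpecIso (CommRingCat.of K)).inv c) := by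
    rw [Scheme.Hom.comp_appTop, ConcreteCategory.comp_apply]
    have h2 : x.appLE ⊤ ⊤ le_top = x.appTop := by
      simp only [Scheme.Hom.appLE]
      exact (congrArg (fun z => x.app ⊤ ≫ z) ((Spec (CommRingCat.of K)).presheaf.map_id _)).trans
        (Category.comp_id _)
    rw [h2]
  rw [h1, hx]
  simp

theorem Fr.val_sc_smul (F : Fr x M) (q : X ⟶ Spec (CommRingCat.of K)) (hx : x ≫ q = 𝟙 _) (c : K)
    (s : Γ(M, ⊤)) : F.val (sc q c • s) = c * F.val s := by
  rw [F.val_smul, ev_sc q hx]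

end K409.Frame
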