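import Groth.Agent.MultTori.K409.AbCoord

/-!
# Node RQ-B of S18688: projective coordinates on an abelian variety
-/

set_option autoImplicit false

universe u v

open CategoryTheory CategoryTheory.Limits AlgebraicGeometry MonObj MonoidalCategory
  CartesianMonoidalCategory TensorProduct

namespace Groth.Agent.MultTori.K409

open Groth.Agent.MultTori.K441

/-- RQ-B -/
theorem projCoord_abelian (K : Type u) [Field K] (A : Over (Spec (CommRingCat.of K))) [GrpObj A]
    [IsCommMonObj A] [IsProper A.hom] [GeometricallyIntegral A.hom] :
    Nonempty (ProjCoord K (𝟙_ (Over (Spec (CommRingCat.of K))) ⟶ A)) :=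
  _root_.K409.AbCoord.projCoord_abelian A

end Groth.Agent.MultTori.K409
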